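import Groth.Prelude.Def_AlgGrp
import Mathlib

/-!
The Néron mapping property passes between a smooth group and its pseudo-torsors.
-/

set_option autoImplicit false
set_option linter.style.haveILetI false
set_option backward.isDefEq.respectTransparency false
universe u

namespace Groth.Agent.NeronTors

open AlgebraicGeometry CategoryTheory CategoryTheory.Limits MonoidalCategory CartesianMonoidalCategory

variable {S : Scheme.{u}} (U : S.Opens)

/-- The part of `Z` over `U`. -/
noncomputable abbrev res (Z : Over S) : Over S := (Over.map U.ι).obj ((Over.pullback U.ι).obj Z)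

/-- The inclusion of the part over `U`. -/
noncomputable abbrev inc (Z : Over S) : res U Z ⟶ Z := (Over.mapPullbackAdj U.ι).counit.app Z

/-- Functoriality of the part over `U`. -/
noncomputable abbrev resMap {Z W : Over S} (p : Z ⟶ W) : res U Z ⟶ res U W :=
  (Over.map U.ι).map ((Over.pullback U.ι).map p)

theorem resMap_inc {Z W : Over S} (p : Z ⟶ W) : resMap U p ≫ inc U W = inc U Z ≫ p :=
  (Over.mapPullbackAdj U.ι).counit.naturality p

theorem inc_left (Z : Over S) : (inc U Z).left = pullback.fst Z.hom U.ι := by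
  simp [inc]

instance mono_inc (Z : Over S) : Mono (inc U Z) := by
  haveI : Mono (inc U Z).left := by rw [inc_left]; infer_instance
  exact Over.mono_of_mono_left _

theorem exists_lift {W Z : Over S} (m : res U W ⟶ Z) : ∃ k : res U W ⟶ res U Z, k ≫ inc U Z = m :=
  ⟨(Over.map U.ι).map ((Over.mapPullbackAdj U.ι).homEquiv ((Over.pullback U.ι).obj W) Z m),
    by
      have := ((Over.mapPullbackAdj U.ι).homEquiv_counit (g := (Over.mapPullbackAdj U.ι).homEquiv _ Z m))
      rw [Equiv.symm_apply_apply] at this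
      exact this.symm⟩

theorem bijective_map_iff (Z N : Over S) :
    Function.Bijective (fun f : Z ⟶ N => (Over.pullback U.ι).map f) ↔
      Function.Bijective (fun f : Z ⟶ N => inc U Z ≫ f) := by
  have e : (fun f : Z ⟶ N => (Over.pullback U.ι).map f) =
      (Over.mapPullbackAdj U.ι).homEquiv ((Over.pullback U.ι).obj Z) N ∘ fun f : Z ⟶ N => inc U Z ≫ f := by
    funext f
    rw [Function.comp_apply, (Over.mapPullbackAdj U.ι).homEquiv_unit, Functor.map_comp,
      (Over.mapPullbackAdj U.ι).right_triangle_components_assoc]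
  rw [e]
  exact ((Over.mapPullbackAdj U.ι).homEquiv _ N).bijective.of_comp_iff' _

theorem epi_fst (W N : Over S) [Smooth N.hom] [Surjective N.hom] : Epi (fst W N) := by
  have hsq : IsPullback (fst W N).left (snd W N).left W.hom N.hom := IsPullback.of_hasPullback _ _
  haveI : Smooth (fst W N).left := MorphismProperty.of_isPullback hsq.flip ‹Smooth N.hom›
  haveI : Surjective (fst W N).left := MorphismProperty.of_isPullback hsq.flip ‹Surjective N.hom›
  haveI : Epi (fst W N).left := inferInstance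
  exact Over.epi_of_epi_left _

/-- Descent along `W ⊗ N → W`. -/
theorem exists_desc {W N G : Over S} [Smooth N.hom] [Surjective N.hom] (g : W ⊗ N ⟶ G)
    (hg : (W ◁ fst N N) ≫ g = (W ◁ snd N N) ≫ g) : ∃ f : W ⟶ G, fst W N ≫ f = g := by
  have hsq : IsPullback (fst W N).left (snd W N).left W.hom N.hom := IsPullback.of_hasPullback _ _
  haveI : Smooth (fst W N).left := MorphismProperty.of_isPullback hsq.flip ‹Smooth N.hom›
  haveI : Surjective (fst W N).left := MorphismProperty.of_isPullback hsq.flip ‹Surjective N.hom›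
  have hdesc : ∀ {T : Scheme.{u}} (a b : T ⟶ (W ⊗ N).left),
      a ≫ (fst W N).left = b ≫ (fst W N).left → a ≫ g.left = b ≫ g.left := fun {T} a b e => by
    let T' : Over S := Over.mk (a ≫ (W ⊗ N).hom)
    let a' : T' ⟶ W ⊗ N := Over.homMk a rfl
    let b' : T' ⟶ W ⊗ N := Over.homMk b (by
      show b ≫ (W ⊗ N).hom = a ≫ (W ⊗ N).hom
      rw [← Over.w (fst W N), reassoc_of% e])
    have e' : a' ≫ fst W N = b' ≫ fst W N := Over.OverMorphism.ext e
    let m : T' ⟶ W ⊗ N ⊗ N := lift (a' ≫ fst W N) (lift (a' ≫ snd W N) (b' ≫ snd W N))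
    have h1 : m ≫ (W ◁ fst N N) = a' := by
      apply CartesianMonoidalCategory.hom_ext <;> simp [m]
    have h2 : m ≫ (W ◁ snd N N) = b' := by
      apply CartesianMonoidalCategory.hom_ext
      · simp [m, e']
      · simp [m]
    have := congrArg (m ≫ ·) hg
    simp only [← Category.assoc, h1, h2] at this
    exact congrArg CommaMorphism.left this
  let f₀ := EffectiveEpi.desc (fst W N).left g.left hdesc
  have hf₀ : (fst W N).left ≫ f₀ = g.left := EffectiveEpi.fac _ _ _
  refine ⟨Over.homMk f₀ ?_, Over.OverMorphism.ext hf₀⟩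
  rw [← cancel_epi (fst W N).left, reassoc_of% hf₀, Over.w g, Over.w (fst W N)]

variable {U} {G N : Over S} [Smooth G.hom] [Smooth N.hom] [Surjective N.hom]

omit [Smooth G.hom] in
theorem smooth_tensor (Z : Over S) [Smooth Z.hom] : Smooth (Z ⊗ N).hom := by
  rw [Over.tensorObj_hom]; infer_instance

omit [Smooth G.hom] in
theorem smooth_tensor₂ (Z : Over S) [Smooth Z.hom] : Smooth (Z ⊗ N ⊗ N).hom := by
  haveI := smooth_tensor (N := N) N
  rw [Over.tensorObj_hom]; infer_instance

omit [Smooth G.hom] in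
/-- Extend a morphism given over `U`, after extending it on `Z ⊗ N`. -/
theorem exists_extend {X : Over S}
    (hinj : ∀ Z : Over S, Smooth Z.hom → Function.Injective (fun f : Z ⟶ X => inc U Z ≫ f))
    {Z : Over S} [Smooth Z.hom] (φ : res U Z ⟶ X) (g : Z ⊗ N ⟶ X)
    (hg : inc U (Z ⊗ N) ≫ g = resMap U (fst Z N) ≫ φ) : ∃ f : Z ⟶ X, inc U Z ≫ f = φ := by
  have hcoc : (Z ◁ fst N N) ≫ g = (Z ◁ snd N N) ≫ g := by
    refine hinj _ (smooth_tensor₂ Z) ?_
    show inc U _ ≫ _ = inc U _ ≫ _
    rw [← reassoc_of% resMap_inc U (Z ◁ fst N N), ← reassoc_of% resMap_inc U (Z ◁ snd N N), hg,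
      ← Category.assoc, ← Category.assoc, ← Functor.map_comp, ← Functor.map_comp, ← Functor.map_comp,
      ← Functor.map_comp, whiskerLeft_fst, whiskerLeft_fst]
  obtain ⟨f, hf⟩ := exists_desc g hcoc
  refine ⟨f, ?_⟩
  haveI := epi_fst (res U Z) N
  rw [← cancel_epi (fst (res U Z) N)]
  let m : res U Z ⊗ N ⟶ Z ⊗ N := lift (fst _ _ ≫ inc U Z) (snd _ _)
  have hsq : IsPullback (pullback.fst (Z ⊗ N).hom U.ι) (pullback.snd _ _) (Z ⊗ N).hom U.ι :=
    IsPullback.of_hasPullback _ _
  let k₀ : (res U Z ⊗ N).left ⟶ (res U (Z ⊗ N)).left :=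
    hsq.lift m.left ((fst (res U Z) N).left ≫ ((Over.pullback U.ι).obj Z).hom) (by
      rw [Over.w m, Category.assoc]
      exact (Over.w (fst (res U Z) N)).symm)
  let k : res U Z ⊗ N ⟶ res U (Z ⊗ N) := Over.homMk k₀ (by
    show k₀ ≫ pullback.snd _ _ ≫ U.ι = _
    rw [hsq.lift_snd_assoc, Category.assoc]
    exact Over.w (fst (res U Z) N))
  have hk : k ≫ inc U (Z ⊗ N) = m := Over.OverMorphism.ext (by
    rw [Over.comp_left, inc_left]; exact hsq.lift_fst _ _ _)
  have hk' : k ≫ resMap U (fst Z N) = fst (res U Z) N := by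
    rw [← cancel_mono (inc U Z), Category.assoc, resMap_inc, reassoc_of% hk]
    simp [m]
  calc fst (res U Z) N ≫ inc U Z ≫ f = m ≫ fst Z N ≫ f := by simp [m]
    _ = m ≫ g := by rw [hf]
    _ = k ≫ inc U (Z ⊗ N) ≫ g := (reassoc_of% hk) g |>.symm
    _ = _ := by rw [hg, reassoc_of% hk']

variable [GrpObj G] (a : AlgGrp.Action G N) (ψ : N ⊗ N ⟶ G ⊗ N)
  (h1 : lift a.act (snd G N) ≫ ψ = 𝟙 _) (h2 : ψ ≫ lift a.act (snd G N) = 𝟙 _)

include h1 in
omit [Smooth G.hom] [Smooth N.hom] [Surjective N.hom] in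
theorem lift_act_psi {T : Over S} (g : T ⟶ G) (n : T ⟶ N) :
    lift (lift g n ≫ a.act) n ≫ ψ = lift g n := by
  have : lift (lift g n ≫ a.act) n = lift g n ≫ lift a.act (snd G N) := by
    apply CartesianMonoidalCategory.hom_ext <;> simp
  rw [this, Category.assoc, h1, Category.comp_id]

include h2 in
omit [Smooth G.hom] [Smooth N.hom] [Surjective N.hom] in
theorem psi_act {T : Over S} (f n : T ⟶ N) :
    lift (lift f n ≫ ψ ≫ fst G N) n ≫ a.act = f := by
  have e2 : ψ ≫ snd G N = snd N N := by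
    have := congrArg (· ≫ snd N N) h2
    simpa using this
  have : lift (lift f n ≫ ψ ≫ fst G N) n = lift f n ≫ ψ := by
    apply CartesianMonoidalCategory.hom_ext
    · simp
    · simp [e2]
  have e1 : ψ ≫ a.act = fst N N := by
    have := congrArg (· ≫ fst N N) h2
    simpa using this
  rw [this, Category.assoc, e1, lift_fst]

include h2 in
omit [Smooth G.hom] in
theorem of_group (hG : ∀ Z : Over S, Smooth Z.hom → Function.Bijective (fun f : Z ⟶ G => inc U Z ≫ f))
    (Z : Over S) (hZ : Smooth Z.hom) : Function.Bijective (fun f : Z ⟶ N => inc U Z ≫ f) := by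
  have hinj : ∀ Z : Over S, Smooth Z.hom → Function.Injective (fun f : Z ⟶ N => inc U Z ≫ f) := by
    intro Z hZ f f' (e : inc U Z ≫ f = inc U Z ≫ f')
    have e' : lift f f' ≫ ψ ≫ fst G N = lift f' f' ≫ ψ ≫ fst G N := by
      refine (hG Z hZ).1 ?_
      show inc U Z ≫ _ = inc U Z ≫ _
      rw [← Category.assoc, ← Category.assoc (inc U Z) (lift f' f'), comp_lift, comp_lift, e]
    rw [← psi_act a ψ h2 f f', e', psi_act a ψ h2 f' f']
  refine ⟨hinj Z hZ, fun φ => ?_⟩
  let n := inc U (Z ⊗ N) ≫ snd Z N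
  obtain ⟨g, hg : inc U (Z ⊗ N) ≫ g = _⟩ := (hG (Z ⊗ N) (smooth_tensor Z)).2
    (lift (resMap U (fst Z N) ≫ φ) n ≫ ψ ≫ fst G N)
  refine exists_extend hinj φ (lift g (snd Z N) ≫ a.act) ?_
  rw [← Category.assoc, comp_lift, hg]
  exact psi_act a ψ h2 _ n

include h1 in
omit [Smooth G.hom] in
theorem of_torsor (hN : ∀ Z : Over S, Smooth Z.hom → Function.Bijective (fun f : Z ⟶ N => inc U Z ≫ f))
    (Z : Over S) (hZ : Smooth Z.hom) : Function.Bijective (fun f : Z ⟶ G => inc U Z ≫ f) := by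
  have hinj : ∀ Z : Over S, Smooth Z.hom → Function.Injective (fun f : Z ⟶ G => inc U Z ≫ f) := by
    intro Z hZ g g' (e : inc U Z ≫ g = inc U Z ≫ g')
    haveI := epi_fst Z N
    rw [← cancel_epi (fst Z N)]
    have e' : lift (fst Z N ≫ g) (snd Z N) ≫ a.act = lift (fst Z N ≫ g') (snd Z N) ≫ a.act := by
      refine (hN _ (smooth_tensor Z)).1 ?_
      show inc U _ ≫ _ = inc U _ ≫ _
      rw [← Category.assoc, comp_lift, ← reassoc_of% resMap_inc U (fst Z N), e,
        reassoc_of% resMap_inc U (fst Z N), ← comp_lift, Category.assoc]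
    have := congrArg (fun x => lift x (snd Z N) ≫ ψ ≫ fst G N) e'
    simpa [← Category.assoc, lift_act_psi a ψ h1] using this
  refine ⟨hinj Z hZ, fun φ => ?_⟩
  let n := inc U (Z ⊗ N) ≫ snd Z N
  obtain ⟨f, hf : inc U (Z ⊗ N) ≫ f = _⟩ := (hN (Z ⊗ N) (smooth_tensor Z)).2
    (lift (resMap U (fst Z N) ≫ φ) n ≫ a.act)
  refine exists_extend hinj φ (lift f (snd Z N) ≫ ψ ≫ fst G N) ?_
  rw [← Category.assoc, comp_lift, hf, ← Category.assoc, lift_act_psi a ψ h1, lift_fst]

end Groth.Agent.NeronTors
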