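import Mathlib

/-!
# Sections of `p`-power order reducing to the unit section
-/

set_option autoImplicit false
set_option backward.isDefEq.respectTransparency false
set_option linter.style.haveILetI false
set_option maxHeartbeats 1000000
set_option synthInstance.maxHeartbeats 100000

universe u

open CategoryTheory CategoryTheory.Limits MonoidalCategory CartesianMonoidalCategory AlgebraicGeometry
open scoped MonObj
open IsLocalRing

noncomputable section

namespace Groth.Agent.NeronTors

variable {R : Type u} [CommRing R] {N : Over (Spec (CommRingCat.of R))}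

/-- An affine test scheme. -/
abbrev W (R : Type u) [CommRing R] (C : Type u) [CommRing C] [Algebra R C] : Over (Spec (CommRingCat.of R)) :=
  Over.mk (Spec.map (CommRingCat.ofHom (algebraMap R C)))

/-- The map of test schemes of an algebra map. -/
def gmap {C C' : Type u} [CommRing C] [Algebra R C] [CommRing C'] [Algebra R C'] (g : C →ₐ[R] C') : W R C' ⟶ W R C :=
  Over.homMk (Spec.map (CommRingCat.ofHom g.toRingHom)) (by
    show Spec.map _ ≫ Spec.map _ = Spec.map _
    rw [← Spec.map_comp]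
    exact congrArg Spec.map (CommRingCat.hom_ext g.comp_algebraMap))

section Chart

variable {B : Type u} [CommRing B] [Algebra R B] (ι₀ : W R B ⟶ N)

/-- A point in a chart. -/
def pt {C : Type u} [CommRing C] [Algebra R C] (α : B →ₐ[R] C) : W R C ⟶ N := gmap α ≫ ι₀

theorem gmap_pt {C C' : Type u} [CommRing C] [Algebra R C] [CommRing C'] [Algebra R C'] (g : C →ₐ[R] C')
    (α : B →ₐ[R] C) : gmap g ≫ pt ι₀ α = pt ι₀ (g.comp α) := by
  rw [pt, pt, ← Category.assoc]
  congr 1
  exact Over.OverMorphism.ext (Spec.map_comp _ _).symm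

variable [IsOpenImmersion ι₀.left]

theorem pt_injective {C : Type u} [CommRing C] [Algebra R C] {α β : B →ₐ[R] C} (h : pt ι₀ α = pt ι₀ β) : α = β := by
  have h' : Spec.map (CommRingCat.ofHom α.toRingHom) ≫ ι₀.left = Spec.map (CommRingCat.ofHom β.toRingHom) ≫ ι₀.left :=
    congrArg CommaMorphism.left h
  exact AlgHom.coe_ringHom_injective (congrArg CommRingCat.Hom.hom (Spec.map_injective ((cancel_mono ι₀.left).1 h')))

theorem exists_pt {C : Type u} [CommRing C] [Algebra R C] (f : W R C ⟶ N)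
    (hf : Set.range f.left ⊆ Set.range ι₀.left) : ∃ α : B →ₐ[R] C, pt ι₀ α = f := by
  let l : Spec (CommRingCat.of C) ⟶ Spec (CommRingCat.of B) := IsOpenImmersion.lift ι₀.left f.left hf
  have hl : l ≫ ι₀.left = f.left := IsOpenImmersion.lift_fac _ _ _
  let φ := Spec.preimage l
  have hφ : CommRingCat.ofHom (algebraMap R B) ≫ φ = CommRingCat.ofHom (algebraMap R C) := by
    apply Spec.map_injective
    rw [Spec.map_comp, Spec.map_preimage, show Spec.map (CommRingCat.ofHom (algebraMap R B)) = ι₀.left ≫ N.hom from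
      (Over.w ι₀).symm, reassoc_of% hl]
    exact Over.w f
  let α : B →ₐ[R] C := { φ.hom with
    commutes' := fun r => congrArg (fun t : CommRingCat.of R ⟶ CommRingCat.of C => t.hom r) hφ }
  exact ⟨α, Over.OverMorphism.ext (show Spec.map φ ≫ ι₀.left = f.left by rw [Spec.map_preimage, hl])⟩

end Chart

variable [GrpObj N]

/-- A section restricted to a test scheme. -/
abbrev res (x : 𝟙_ (Over (Spec (CommRingCat.of R))) ⟶ N) (C : Type u) [CommRing C] [Algebra R C] : W R C ⟶ N :=
  toUnit _ ≫ x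

theorem gmap_res (x : 𝟙_ (Over (Spec (CommRingCat.of R))) ⟶ N) {C C' : Type u} [CommRing C] [Algebra R C] [CommRing C']
    [Algebra R C'] (g : C →ₐ[R] C') : gmap g ≫ res x C = res x C' := comp_toUnit_assoc _ _

variable [IsLocalRing R]

/-- Morphisms out of a test scheme over a power of the maximal ideal only see the closed fibre. -/
theorem range_mul_res {B : Type u} [CommRing B] [Algebra R B] (ι₀ : W R B ⟶ N) (e0 x0 : B →ₐ[R] R)
    (x : 𝟙_ (Over (Spec (CommRingCat.of R))) ⟶ N) (he : pt ι₀ e0 = 1) (hx : pt ι₀ x0 = res x R)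
    (h1 : ∀ b, x0 b - e0 b ∈ maximalIdeal R) {C : Type u} [CommRing C] [Algebra R C] (n : ℕ)
    (hC : (maximalIdeal R ^ n).map (algebraMap R C) = ⊥) (α : B →ₐ[R] C) :
    Set.range (pt ι₀ α * res x C).left ⊆ Set.range ι₀.left := by
  rintro _ ⟨(w : PrimeSpectrum C), rfl⟩
  let L := w.asIdeal.ResidueField
  let g : C →ₐ[R] L := IsScalarTower.toAlgHom R C L
  have hm : ∀ r ∈ maximalIdeal R, algebraMap R L r = 0 := fun r hr => by
    have h : algebraMap R C (r ^ n) ∈ (maximalIdeal R ^ n).map (algebraMap R C) :=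
      Ideal.mem_map_of_mem _ (Ideal.pow_mem_pow hr n)
    rw [hC, Ideal.mem_bot] at h
    have h' : algebraMap R L r ^ n = 0 := by
      rw [← map_pow, IsScalarTower.algebraMap_apply R C L, h, map_zero]
    exact eq_zero_of_pow_eq_zero h'
  have hxe : (Algebra.ofId R L).comp x0 = (Algebra.ofId R L).comp e0 := AlgHom.ext fun b => by
    rw [← sub_eq_zero, AlgHom.comp_apply, AlgHom.comp_apply, ← map_sub]
    exact hm _ (h1 b)
  have hxL : res x L = 1 := by
    rw [← gmap_res x (Algebra.ofId R L), ← hx, gmap_pt, hxe, ← gmap_pt, he, MonObj.comp_one]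
  obtain ⟨w', hw'⟩ : ∃ w' : Spec (CommRingCat.of L), (gmap g).left w' = w := by
    refine ⟨closedPoint L, PrimeSpectrum.ext ?_⟩
    show (maximalIdeal L).comap (algebraMap C L) = w.asIdeal
    rw [maximalIdeal_eq_bot, ← RingHom.ker_eq_comap_bot, Ideal.ker_algebraMap_residueField]
  have key : gmap g ≫ (pt ι₀ α * res x C) = pt ι₀ (g.comp α) := by
    rw [MonObj.comp_mul, gmap_pt, gmap_res, hxL, mul_one]
  refine ⟨(gmap (g.comp α)).left w', ?_⟩
  exact (congrArg (fun f : W R L ⟶ N => f.left w') key).symm.trans (congrArg (pt ι₀ α * res x C).left hw')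

variable [IsDomain R] [IsNoetherianRing R]

/-- One step of the filtration argument. -/
theorem sub_mem_succ {B : Type u} [CommRing B] [Algebra R B] (ι₀ : W R B ⟶ N) [IsOpenImmersion ι₀.left]
    (e0 x0 : B →ₐ[R] R) (x : 𝟙_ (Over (Spec (CommRingCat.of R))) ⟶ N) (he : pt ι₀ e0 = 1) (hx : pt ι₀ x0 = res x R)
    (p : ℕ) (hp : p.Prime) (hxp : x ^ p = 1) (ϖ : R) (hϖ : maximalIdeal R = Ideal.span {ϖ}) (hϖ0 : ϖ ≠ 0)
    (e : ℕ) (v : R) (hv : IsUnit v) (hpe : (p : R) = v * ϖ ^ e) (hep : e + 1 ≤ p - 1) (s : ℕ) (hs : 1 ≤ s)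
    (hδ : ∀ b, x0 b - e0 b ∈ maximalIdeal R ^ s) (b₀ : B) : x0 b₀ - e0 b₀ ∈ maximalIdeal R ^ (s + 1) := by
  classical
  set m := maximalIdeal R
  let n := e + s + 1
  let I : Ideal B := (m ^ n).map (algebraMap R B)
  let C := B ⧸ I
  let q : B →ₐ[R] C := Ideal.Quotient.mkₐ R I
  have hC : (m ^ n).map (algebraMap R C) = ⊥ := by
    rw [show algebraMap R C = (Ideal.Quotient.mk I).comp (algebraMap R B) from rfl, ← Ideal.map_map]
    exact Ideal.map_quotient_self I
  have h1 : ∀ b, x0 b - e0 b ∈ m := fun b => Ideal.pow_le_self (by omega) (hδ b)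
  obtain ⟨φ, hφ⟩ := exists_pt ι₀ (pt ι₀ q * res x C) (range_mul_res ι₀ e0 x0 x he hx h1 n hC q)
  have hkill : ∀ {D : Type u} [CommRing D] [Algebra R D], (m ^ n).map (algebraMap R D) = ⊥ →
      ∀ (α : B →ₐ[R] D), ∀ a ∈ I, α a = 0 := by
    intro D _ _ hD α a ha
    have := Ideal.mem_map_of_mem α.toRingHom ha
    rw [Ideal.map_map, show α.toRingHom.comp (algebraMap R B) = algebraMap R D from α.comp_algebraMap, hD,
      Ideal.mem_bot] at this
    exact this
  let r : C →ₐ[R] C := Ideal.Quotient.liftₐ I φ (hkill hC φ)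
  have hrq : r.comp q = φ := Ideal.Quotient.liftₐ_comp I φ _
  have hpow : ∀ j, pt ι₀ ((r ^ j).comp q) = pt ι₀ q * res x C ^ j := by
    intro j
    induction j with
    | zero => rw [pow_zero, pow_zero, mul_one]; rfl
    | succ j ih =>
      rw [pow_succ]
      show pt ι₀ (((r ^ j).comp r).comp q) = _
      rw [AlgHom.comp_assoc, hrq, ← gmap_pt, hφ, MonObj.comp_mul, gmap_pt, ih,
        gmap_res, pow_succ, mul_assoc]
  have hrp : r ^ p = 1 := by
    have h : (r ^ p).comp q = q := by
      refine pt_injective ι₀ ?_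
      rw [hpow, show res x C ^ p = toUnit _ ≫ x ^ p from (MonObj.comp_pow _ _ _).symm, hxp, MonObj.comp_one, mul_one]
    exact Ideal.Quotient.algHom_ext R h
  let T : Module.End R C := r.toLinearMap - 1
  -- the translation is the identity modulo the next power
  have hT : ∀ c, T c ∈ (m ^ s).map (algebraMap R C) := by
    intro c
    let J : Ideal C := (m ^ s).map (algebraMap R C)
    let q' : C →ₐ[R] C ⧸ J := Ideal.Quotient.mkₐ R J
    have hJ : ∀ y ∈ m ^ s, algebraMap R (C ⧸ J) y = 0 := fun y hy =>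
      Ideal.Quotient.eq_zero_iff_mem.2 (Ideal.mem_map_of_mem _ hy)
    have hx' : res x (C ⧸ J) = 1 := by
      rw [← gmap_res x (Algebra.ofId R (C ⧸ J)), ← hx, gmap_pt,
        show (Algebra.ofId R (C ⧸ J)).comp x0 = (Algebra.ofId R (C ⧸ J)).comp e0 from AlgHom.ext fun b => by
          rw [← sub_eq_zero, AlgHom.comp_apply, AlgHom.comp_apply, ← map_sub]
          exact hJ _ (hδ b),
        ← gmap_pt, he, MonObj.comp_one]
    have h : (q'.comp r).comp q = q'.comp q := by
      refine pt_injective ι₀ ?_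
      rw [AlgHom.comp_assoc, hrq, ← gmap_pt, hφ, MonObj.comp_mul, gmap_pt, gmap_res, hx', mul_one]
    have h' := AlgHom.congr_fun (Ideal.Quotient.algHom_ext R h) c
    exact Ideal.Quotient.eq.1 h'
  have hTj : ∀ j c, (T ^ j) c ∈ (m ^ (s * j)).map (algebraMap R C) := by
    intro j
    induction j with
    | zero => intro c; rw [mul_zero, pow_zero (maximalIdeal R), Ideal.one_eq_top, Ideal.map_top]; trivial
    | succ j ih =>
      intro c
      rw [pow_succ', Module.End.mul_apply, Nat.mul_succ, pow_add, Ideal.map_mul]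
      have hmem := ih c
      rw [hϖ, Ideal.span_singleton_pow, Ideal.map_span, Set.image_singleton, Ideal.mem_span_singleton] at hmem
      obtain ⟨d, hd⟩ := hmem
      rw [hd, ← Algebra.smul_def, map_smul, Algebra.smul_def]
      refine Ideal.mul_mem_mul (Ideal.mem_map_of_mem _ ?_) (hT d)
      rw [hϖ, Ideal.span_singleton_pow]
      exact Ideal.mem_span_singleton_self _
  have hsum : ∀ c, ∑ j ∈ Finset.range (p + 1), p.choose j • (T ^ j) c = c := by
    intro c
    have h := Commute.add_pow (Commute.one_right T) p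
    rw [show T + 1 = r.toLinearMap from sub_add_cancel _ _] at h
    have hl : ∀ j, r.toLinearMap ^ j = (r ^ j).toLinearMap := fun j => by
      induction j with
      | zero => rfl
      | succ j ih => rw [pow_succ, pow_succ, ih]; rfl
    rw [hl, hrp] at h
    conv_rhs => rw [show c = ((1 : C →ₐ[R] C).toLinearMap) c from rfl, h, LinearMap.sum_apply]
    refine Finset.sum_congr rfl fun j _ => ?_
    rw [one_pow, mul_one, (Nat.cast_commute _ _).eq.symm, Module.End.mul_apply, Module.End.natCast_apply]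
  -- evaluation at the unit section
  let Rn := R ⧸ m ^ n
  have hRn : (m ^ n).map (algebraMap R Rn) = ⊥ := Ideal.map_quotient_self _
  let en : C →ₐ[R] Rn := Ideal.Quotient.liftₐ I ((Algebra.ofId R Rn).comp e0) (hkill hRn _)
  have henq : en.comp q = (Algebra.ofId R Rn).comp e0 := Ideal.Quotient.liftₐ_comp I _ _
  have hen : (en.comp r).comp q = (Algebra.ofId R Rn).comp x0 := by
    refine pt_injective ι₀ ?_
    rw [AlgHom.comp_assoc, hrq, ← gmap_pt, hφ, MonObj.comp_mul, gmap_pt, gmap_res, henq, ← gmap_pt, he,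
      MonObj.comp_one, one_mul, ← gmap_pt, hx, gmap_res]
  have hstep := hsum (q b₀)
  obtain ⟨p', rfl⟩ : ∃ p', p = p' + 2 := ⟨p - 2, by have := hp.two_le; omega⟩
  rw [Finset.sum_range_succ', Finset.sum_range_succ', pow_zero, Module.End.one_apply, Nat.choose_zero_right,
    one_smul, zero_add, pow_one, Nat.choose_one_right, add_eq_right] at hstep
  have hbig : ∀ j ∈ Finset.range (p' + 1),
      en ((p' + 2).choose (j + 1 + 1) • (T ^ (j + 1 + 1)) (q b₀)) = 0 := by
    intro j hj
    have hev : ∀ t, ∀ c ∈ (m ^ t).map (algebraMap R C), en c ∈ (m ^ t).map (algebraMap R Rn) := fun t c hc => by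
      have := Ideal.mem_map_of_mem en.toRingHom hc
      rwa [Ideal.map_map, show en.toRingHom.comp (algebraMap R C) = algebraMap R Rn from en.comp_algebraMap] at this
    have h2 := hev _ _ (hTj (j + 1 + 1) (q b₀))
    rw [map_nsmul, nsmul_eq_mul]
    have hj' := Finset.mem_range.1 hj
    have hchoose : ((p' + 2).choose (j + 1 + 1) : Rn) * en ((T ^ (j + 1 + 1)) (q b₀)) ∈
        (m ^ n).map (algebraMap R Rn) := by
      rcases Nat.lt_or_ge (j + 1 + 1) (p' + 2) with hlt | hge
      · obtain ⟨d, hd⟩ := hp.dvd_choose_self (by omega) hlt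
        have hpm : ((p' + 2 : ℕ) : Rn) ∈ (m ^ e).map (algebraMap R Rn) := by
          rw [← map_natCast (algebraMap R Rn)]
          refine Ideal.mem_map_of_mem _ ?_
          rw [hpe]
          exact Ideal.mul_mem_left _ _ (Ideal.pow_mem_pow (hϖ ▸ Ideal.mem_span_singleton_self ϖ) e)
        have h3 : ((p' + 2).choose (j + 1 + 1) : Rn) ∈ (m ^ e).map (algebraMap R Rn) := by
          rw [hd, Nat.cast_mul]
          exact Ideal.mul_mem_right _ _ hpm
        have h4 := Ideal.mul_mem_mul h3 h2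
        rw [← Ideal.map_mul, ← pow_add] at h4
        refine Ideal.map_mono (Ideal.pow_le_pow_right ?_) h4
        have : s * 2 ≤ s * (j + 1 + 1) := Nat.mul_le_mul_left s (by omega)
        omega
      · refine Ideal.map_mono (Ideal.pow_le_pow_right ?_) (Ideal.mul_mem_left _ _ h2)
        have h5 : s * (p' + 2) ≤ s * (j + 1 + 1) := Nat.mul_le_mul_left s hge
        have h6 : p' + 1 ≤ s * (p' + 1) := Nat.le_mul_of_pos_left _ hs
        have h7 : s * (p' + 2) = s * (p' + 1) + s := Nat.mul_succ s (p' + 1)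
        omega
    rwa [hRn, Ideal.mem_bot] at hchoose
  have hkey := congrArg en hstep
  rw [map_add, map_sum, Finset.sum_eq_zero hbig, zero_add, map_nsmul, map_zero,
    show en (T (q b₀)) = algebraMap R Rn (x0 b₀ - e0 b₀) by
      rw [map_sub]
      show en (r (q b₀) - q b₀) = _
      rw [map_sub]
      exact congrArg₂ (· - ·) (AlgHom.congr_fun hen b₀) (AlgHom.congr_fun henq b₀),
    nsmul_eq_mul, ← map_natCast (algebraMap R Rn), ← map_mul] at hkey
  have hmem : ((p' + 2 : ℕ) : R) * (x0 b₀ - e0 b₀) ∈ m ^ n := Ideal.Quotient.eq_zero_iff_mem.1 hkey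
  rw [hpe, mul_assoc, Ideal.unit_mul_mem_iff_mem _ hv, hϖ, Ideal.span_singleton_pow, Ideal.mem_span_singleton,
    show n = e + (s + 1) from rfl, pow_add] at hmem
  rw [hϖ, Ideal.span_singleton_pow, Ideal.mem_span_singleton]
  exact (mul_dvd_mul_iff_left (pow_ne_zero e hϖ0)).1 hmem

omit [IsNoetherianRing R] in
theorem exists_uniformizer_pow [IsDiscreteValuationRing R] {p : ℕ} (hp : (p : R) ∉ maximalIdeal R ^ (p - 1)) :
    ∃ (ϖ : R) (e : ℕ) (v : R), maximalIdeal R = Ideal.span {ϖ} ∧ ϖ ≠ 0 ∧ IsUnit v ∧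
      (p : R) = v * ϖ ^ e ∧ e + 1 ≤ p - 1 := by
  obtain ⟨ϖ, hϖ⟩ := IsDiscreteValuationRing.exists_irreducible R
  have hp0 : (p : R) ≠ 0 := fun h => hp (h ▸ zero_mem _)
  obtain ⟨e, v, hv⟩ := IsDiscreteValuationRing.eq_unit_mul_pow_irreducible hp0 hϖ
  refine ⟨ϖ, e, v, hϖ.maximalIdeal_eq, hϖ.ne_zero, v.isUnit, hv, ?_⟩
  by_contra hlt
  refine hp ?_
  rw [hv]
  exact Ideal.mul_mem_left _ _ (Ideal.pow_le_pow_right (by omega)
    (Ideal.pow_mem_pow (hϖ.maximalIdeal_eq ▸ Ideal.mem_span_singleton_self ϖ) e))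

/-- A section of prime order `p` reducing to the unit is trivial when the ramification is small. -/
theorem eq_one_of_pow_prime [IsDiscreteValuationRing R] (p : ℕ) (hp : p.Prime)
    (hv : (p : R) ∉ maximalIdeal R ^ (p - 1)) (x : 𝟙_ (Over (Spec (CommRingCat.of R))) ⟶ N) (hxp : x ^ p = 1)
    (hred : x.left (closedPoint R) = (η[N] : 𝟙_ (Over (Spec (CommRingCat.of R))) ⟶ N).left (closedPoint R)) :
    x = 1 := by
  obtain ⟨ϖ, e, v, hϖ, hϖ0, hvu, hpe, hep⟩ := exists_uniformizer_pow hv
  obtain ⟨U, hU, hcU, -⟩ := exists_isAffineOpen_mem_and_subset (U := (⊤ : N.left.Opens))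
    (x := (η[N] : 𝟙_ (Over (Spec (CommRingCat.of R))) ⟶ N).left (closedPoint R)) trivial
  let str : CommRingCat.of R ⟶ Γ(N.left, U) := Spec.preimage (hU.fromSpec ≫ N.hom)
  letI : Algebra R Γ(N.left, U) := str.hom.toAlgebra
  let ι₀ : W R Γ(N.left, U) ⟶ N := Over.homMk hU.fromSpec (Spec.map_preimage _).symm
  haveI : IsOpenImmersion ι₀.left := inferInstanceAs (IsOpenImmersion hU.fromSpec)
  let uu : 𝟙_ (Over (Spec (CommRingCat.of R))) ⟶ W R R := Over.homMk (𝟙 (Spec (CommRingCat.of R))) (by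
    show 𝟙 _ ≫ Spec.map (CommRingCat.ofHom (algebraMap R R)) = 𝟙 _
    rw [Category.id_comp, Algebra.algebraMap_self]
    exact Spec.map_id _)
  have hex : ∀ y : 𝟙_ (Over (Spec (CommRingCat.of R))) ⟶ N, y.left (closedPoint R) ∈ U →
      ∃ α : Γ(N.left, U) →ₐ[R] R, pt ι₀ α = res y R := by
    intro y hy
    refine exists_pt ι₀ _ ?_
    show _ ⊆ Set.range hU.fromSpec
    rw [IsAffineOpen.range_fromSpec]
    rintro _ ⟨w, rfl⟩
    exact ((specializes_closedPoint _).map y.left.continuous).mem_open U.2 hy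
  have hone : (1 : 𝟙_ (Over (Spec (CommRingCat.of R))) ⟶ N) = η[N] := by
    rw [Hom.one_def, Subsingleton.elim (toUnit (𝟙_ (Over (Spec (CommRingCat.of R))))) (𝟙 _), Category.id_comp]
  obtain ⟨x0, hx0⟩ := hex x (hred ▸ hcU)
  obtain ⟨e0, he0⟩ := hex η[N] hcU
  have he : pt ι₀ e0 = 1 := by rw [he0, Hom.one_def]
  have hstart : ∀ b, x0 b - e0 b ∈ maximalIdeal R ^ 1 := by
    intro b
    rw [pow_one]
    have hpts : hU.fromSpec (PrimeSpectrum.comap x0.toRingHom (closedPoint R)) =
        hU.fromSpec (PrimeSpectrum.comap e0.toRingHom (closedPoint R)) := by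
      have ex : hU.fromSpec (PrimeSpectrum.comap x0.toRingHom (closedPoint R)) =
          (res x R).left (closedPoint R) := congrArg (fun f : W R R ⟶ N => f.left (closedPoint R)) hx0
      have ee : hU.fromSpec (PrimeSpectrum.comap e0.toRingHom (closedPoint R)) =
          (res η[N] R).left (closedPoint R) := congrArg (fun f : W R R ⟶ N => f.left (closedPoint R)) he0
      rw [ex, ee]
      have e1 : (toUnit (W R R)).left (closedPoint R) = closedPoint R := by
        show Spec.map (CommRingCat.ofHom (algebraMap R R)) (closedPoint R) = _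
        rw [Algebra.algebraMap_self]
        exact PrimeSpectrum.ext rfl
      show x.left ((toUnit (W R R)).left (closedPoint R)) = η[N].left ((toUnit (W R R)).left (closedPoint R))
      rw [e1, hred]
    have hker := congrArg PrimeSpectrum.asIdeal (hU.fromSpec.isOpenEmbedding.injective hpts)
    have hb : b - algebraMap R Γ(N.left, U) (e0 b) ∈ (maximalIdeal R).comap e0.toRingHom := by
      show e0 (b - algebraMap R _ (e0 b)) ∈ maximalIdeal R
      rw [map_sub, AlgHom.commutes, Algebra.algebraMap_self_apply, sub_self]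
      exact zero_mem _
    have hb' : b - algebraMap R Γ(N.left, U) (e0 b) ∈ (maximalIdeal R).comap x0.toRingHom := (Ideal.ext_iff.1 hker _).2 hb
    have : x0 (b - algebraMap R _ (e0 b)) ∈ maximalIdeal R := hb'
    rwa [map_sub, AlgHom.commutes, Algebra.algebraMap_self_apply] at this
  have hall : ∀ s, ∀ b, x0 b - e0 b ∈ maximalIdeal R ^ (s + 1) := by
    intro s
    induction s with
    | zero => exact hstart
    | succ s ih => exact sub_mem_succ ι₀ e0 x0 x he hx0 p hp hxp ϖ hϖ hϖ0 e v hvu hpe hep (s + 1) (by omega) ih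
  have heq : x0 = e0 := AlgHom.ext fun b => by
    have hinf : (⨅ i : ℕ, maximalIdeal R ^ i) = ⊥ := Ideal.iInf_pow_eq_bot_of_isLocalRing _ (Ideal.IsPrime.ne_top inferInstance)
    have : x0 b - e0 b ∈ (⨅ i : ℕ, maximalIdeal R ^ i) := (Submodule.mem_iInf _).2 fun i =>
      Ideal.pow_le_pow_right (Nat.le_succ i) (hall i b)
    rwa [hinf, Ideal.mem_bot, sub_eq_zero] at this
  have h := congrArg (fun f => uu ≫ f) (hx0.symm.trans (heq ▸ he))
  simp only [res, comp_toUnit_assoc, MonObj.comp_one] at h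
  rwa [Subsingleton.elim (toUnit (𝟙_ (Over (Spec (CommRingCat.of R))))) (𝟙 _), Category.id_comp] at h

/-- Two sections through the same point over a point of the base agree on a point over it. -/
theorem section_agree {S X : Scheme.{u}} (f : X ⟶ S) (a b : S ⟶ X) (ha : a ≫ f = 𝟙 S) (hb : b ≫ f = 𝟙 S) (c : S)
    (h : a c = b c) : ∃ (T : Scheme.{u}) (t : T ⟶ S) (w : T), t w = c ∧ t ≫ a = t ≫ b := by
  obtain ⟨w, hw1, hw2⟩ := Scheme.Pullback.exists_preimage_pullback (f := a) (g := b) c c h
  have e12 : pullback.fst a b = pullback.snd a b := by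
    have e := congrArg (fun g => g ≫ f) (pullback.condition (f := a) (g := b))
    simpa [Category.assoc, ha, hb] using e
  exact ⟨pullback a b, pullback.fst a b, w, hw1, pullback.condition.trans (by rw [e12])⟩

end Groth.Agent.NeronTors
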